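import Mathlib
import Groth.Agent.FibSemi.Dims
import Groth.Agent.FibSemi.Equidim
import Groth.Agent.VarDim.Scheme

/-!
The dimension inequality with only a Noetherian local ring at the target point, additivity of the
dimension of closures along a morphism of varieties.
-/

set_option autoImplicit false
set_option linter.style.haveILetI false
set_option linter.style.longLine false
universe u
open CategoryTheory AlgebraicGeometry Limits Topology

noncomputable section

namespace Groth.Agent.FibBound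

open FibSemi

attribute [local instance] VarDim.secAlgebra

variable {X Y : Scheme.{u}} (f : X ⟶ Y)

/-- The dimension inequality, with only a Noetherian local ring at `f x`. -/
theorem dim_inequality [LocallyOfFiniteType f] {ξ x : X} [IsNoetherianRing (Y.presheaf.stalk (f x))]
    (h : ξ ⤳ x) :
    ∃ b t a e : ℕ, Order.krullDim {z : X | ξ ⤳ z ∧ z ⤳ x} = b ∧
      Order.krullDim {z : X | f z = f x ∧ x ⤳ z} = t ∧
      Order.krullDim {z : Y | f ξ ⤳ z ∧ z ⤳ f x} = a ∧
      Order.krullDim {z : X | f z = f ξ ∧ ξ ⤳ z} = e ∧ b + t ≤ a + e := by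
  let j := Y.fromSpecStalk (f x)
  let p := pullback.fst f j
  let f' := pullback.snd f j
  have comm : ∀ w : ↥(pullback f j), f (p w) = j (f' w) := fun w => by
    rw [← Scheme.Hom.comp_apply, ← Scheme.Hom.comp_apply, pullback.condition]
  have hrange : ∀ z : X, f z ⤳ f x → ∃ w, p w = z := fun z hz => by
    have hz' : z ∈ Set.range (pullback.fst f j) := by
      rw [Scheme.Pullback.range_fst, Set.mem_preimage, Scheme.range_fromSpecStalk]
      exact hz
    exact hz'
  have hjr : ∀ w, j w ⤳ f x := fun w => by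
    have : j w ∈ Set.range (Y.fromSpecStalk (f x)) := ⟨w, rfl⟩
    rwa [Scheme.range_fromSpecStalk] at this
  have hp : IsEmbedding p := p.isEmbedding
  have hj : IsEmbedding j := j.isEmbedding
  have hple : ∀ a b, p a ≤ p b ↔ a ≤ b := fun _ _ => hp.specializes_iff
  have hjle : ∀ a b, j a ≤ j b ↔ a ≤ b := fun _ _ => hj.specializes_iff
  obtain ⟨x', hx'⟩ := hrange x specializes_rfl
  obtain ⟨ξ', hξ'⟩ := hrange ξ (h.map f.continuous)
  have h' : ξ' ⤳ x' := (hple x' ξ').1 (by rw [hx', hξ']; exact h)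
  obtain ⟨b, t, a, e, hb, ht, ha, he, hle⟩ := FibSemi.dim_inequality f' h'
  have hfj : ∀ w v, f (p w) = f (p v) ↔ f' w = f' v := fun w v => by
    rw [comm, comm]; exact hj.injective.eq_iff
  refine ⟨b, t, a, e, ?_, ?_, ?_, ?_, hle⟩
  · rw [← hb]
    refine (krullDim_eq_of_embedding p hple hp.injective _ _ fun z => ⟨fun hz => ?_, ?_⟩).symm
    · obtain ⟨w, rfl⟩ := hrange z (hz.2.map f.continuous)
      exact ⟨w, ⟨(hple w ξ').1 (by rw [hξ']; exact hz.1), (hple x' w).1 (by rw [hx']; exact hz.2)⟩, rfl⟩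
    · rintro ⟨w, hw, rfl⟩
      exact ⟨(specializes_of_eq hξ'.symm).trans (hw.1.map p.continuous),
        (hw.2.map p.continuous).trans (specializes_of_eq hx')⟩
  · rw [← ht]
    refine (krullDim_eq_of_embedding p hple hp.injective _ _ fun z => ⟨fun hz => ?_, ?_⟩).symm
    · obtain ⟨w, rfl⟩ := hrange z (specializes_of_eq hz.1)
      exact ⟨w, ⟨(hfj _ _).1 (hz.1.trans (by rw [hx'])), (hple w x').1 (by rw [hx']; exact hz.2)⟩, rfl⟩
    · rintro ⟨w, hw, rfl⟩
      exact ⟨((hfj _ _).2 hw.1).trans (by rw [hx']),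
        (specializes_of_eq hx'.symm).trans (hw.2.map p.continuous)⟩
  · rw [← ha]
    refine (krullDim_eq_of_embedding j hjle hj.injective _ _ fun z => ⟨fun hz => ?_, ?_⟩).symm
    · obtain ⟨w, rfl⟩ : z ∈ Set.range (Y.fromSpecStalk (f x)) := by
        rw [Scheme.range_fromSpecStalk]; exact hz.2
      refine ⟨w, ⟨(hjle w (f' ξ')).1 ?_, (hjle (f' x') w).1 ?_⟩, rfl⟩
      · rw [← comm, hξ']; exact hz.1
      · rw [← comm, hx']; exact hz.2
    · rintro ⟨w, hw, rfl⟩
      exact ⟨by have := hw.1.map j.continuous; rwa [← comm, hξ'] at this,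
        by have := hw.2.map j.continuous; rwa [← comm, hx'] at this⟩
  · rw [← he]
    refine (krullDim_eq_of_embedding p hple hp.injective _ _ fun z => ⟨fun hz => ?_, ?_⟩).symm
    · obtain ⟨w, rfl⟩ := hrange z (hz.1 ▸ h.map f.continuous)
      exact ⟨w, ⟨(hfj _ _).1 (hz.1.trans (by rw [hξ'])), (hple w ξ').1 (by rw [hξ']; exact hz.2)⟩, rfl⟩
    · rintro ⟨w, hw, rfl⟩
      exact ⟨((hfj _ _).2 hw.1).trans (by rw [hξ']), by rw [← hξ']; exact hw.2.map p.continuous⟩

/-- A point without proper generization is the generic point of a component. -/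
theorem closure_mem_irreducibleComponents {η : X} (hmax : ∀ z, z ⤳ η → z = η) :
    closure {η} ∈ irreducibleComponents ↥X := by
  obtain ⟨ξ, hξ⟩ := QuasiSober.sober (isIrreducible_irreducibleComponent (x := η))
    isClosed_irreducibleComponent
  obtain rfl := hmax ξ (hξ.specializes mem_irreducibleComponent)
  rw [hξ.def]
  exact irreducibleComponent_mem_irreducibleComponents ξ

/-- At a point without proper generization, the fibre dimension is the dimension of its closure. -/
theorem krullDim_specs_of_max [LocallyOfFiniteType f] {η : X} (hmax : ∀ z, z ⤳ η → z = η) :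
    Order.krullDim {z : X | f z = f η ∧ η ⤳ z} = FlatMor.fibreDimAt f η := by
  obtain ⟨c, hcη, -, -, n, m, e, -, -, hfd, hc, -⟩ := exists_max_fibre f η
  obtain rfl := hmax c hcη
  rw [hc, hfd]

/-- Bounding the fibre dimension at `x` by that at a generic point through `x`. -/
theorem exists_generic_bound [LocallyOfFiniteType f] (x : X)
    [IsNoetherianRing (Y.presheaf.stalk (f x))] (d : ℕ)
    (hgen : ∀ η : X, η ⤳ x → (∀ z, z ⤳ η → z = η) → FlatMor.fibreDimAt f η = d) :
    ∃ (η : X) (E : ℕ), η ⤳ x ∧ (∀ z, z ⤳ η → z = η) ∧ FlatMor.fibreDimAt f x = E ∧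
      (f η = f x ∧ E = d ∨ (E + 1 : WithBot ℕ∞) ≤ (d : WithBot ℕ∞) + ringKrullDim (Y.presheaf.stalk (f x))) := by
  obtain ⟨c, hcx, hfc, hcmax, n, m, E, -, -, hfd, hc, -⟩ := exists_max_fibre f x
  obtain ⟨η, hηc, hηmax⟩ := exists_max_specializes c
  refine ⟨η, E, hηc.trans hcx, hηmax, hfd, ?_⟩
  have hd := hgen η (hηc.trans hcx) hηmax
  by_cases hne : η = c
  · subst hne
    refine Or.inl ⟨hfc, ?_⟩
    rw [← krullDim_specs_of_max f hηmax, hc] at hd
    exact_mod_cast hd
  · refine Or.inr ?_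
    haveI : IsNoetherianRing (Y.presheaf.stalk (f c)) := hfc.symm ▸ inferInstance
    obtain ⟨b, t, a, e, hb, ht, ha, he, hle⟩ := dim_inequality f hηc
    rw [hc] at ht
    rw [krullDim_specs_of_max f hηmax, hd] at he
    have hE : E = t := by exact_mod_cast ht
    have hde : d = e := by exact_mod_cast he
    have hb1 : 1 ≤ b := by
      have h1 : (1 : WithBot ℕ∞) ≤ (b : WithBot ℕ∞) := by
        rw [← hb, Order.one_le_krullDim_iff]
        refine ⟨⟨c, hηc, specializes_rfl⟩, ⟨η, specializes_rfl, hηc⟩, lt_of_le_not_ge hηc fun h => hne ?_⟩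
        exact (hηc.antisymm h).eq
      exact_mod_cast h1
    have hstalk : (a : WithBot ℕ∞) ≤ ringKrullDim (Y.presheaf.stalk (f x)) := by
      rw [ringKrullDim_stalk_eq, ← hfc, ← ha]
      exact krullDim_mono fun z hz => hz.2
    calc (E + 1 : WithBot ℕ∞) = ((E + 1 : ℕ) : WithBot ℕ∞) := by push_cast; rfl
      _ ≤ ((d + a : ℕ) : WithBot ℕ∞) := by exact_mod_cast (show E + 1 ≤ d + a by omega)
      _ = (d : WithBot ℕ∞) + (a : WithBot ℕ∞) := by push_cast; rfl
      _ ≤ _ := add_le_add le_rfl hstalk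

/-- The fibre dimension at a specialization is at least that at a maximal point. -/
theorem le_fibreDimAt_of_max [LocallyOfFiniteType f] {η x : X} (h : η ⤳ x)
    (hmax : ∀ z, z ⤳ η → z = η) : FlatMor.fibreDimAt f η ≤ FlatMor.fibreDimAt f x := by
  rw [← krullDim_specs_of_max f hmax, ← topDim_closure_inter_fibre_eq]
  exact topDim_closure_le_fibreDimAt f h

/-- Closures of points of a scheme locally of finite type over a field. -/
theorem topDim_closure_singleton (k : Type u) [Field k] [Y.Over (Spec (CommRingCat.of k))]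
    [LocallyOfFiniteType (Y ↘ Spec (CommRingCat.of k))] (y : Y) :
    topologicalKrullDim ↥(closure ({y} : Set Y)) = (VarDim.dimPt k Y y : WithBot ℕ∞) := by
  haveI : QuasiSober ↥(closure ({y} : Set Y)) :=
    isClosed_closure.isClosedEmbedding_subtypeVal.quasiSober
  rw [show topologicalKrullDim ↥(closure ({y} : Set Y)) = Order.krullDim (closure ({y} : Set Y)) from
    (DimLift.topDim_eq_krullDim_points (X := ↥(closure ({y} : Set Y)))).trans (by
      congr 1
      exact Preorder.ext fun a b => subtype_specializes_iff b a)]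
  rw [show (VarDim.dimPt k Y y : WithBot ℕ∞) = ((Order.height y : ℕ∞) : WithBot ℕ∞) by
    rw [VarDim.height_eq_dimPt k y]; rfl, Order.height_eq_krullDim_Iic]
  refine Order.krullDim_eq_of_orderIso (OrderIso.setCongr _ _ ?_)
  ext z
  exact specializes_iff_mem_closure.symm

/-- `dimPt` is additive: point, plus closure in the fibre. -/
theorem dimPt_eq_add (k : Type u) [Field k] [X.Over (Spec (CommRingCat.of k))]
    [Y.Over (Spec (CommRingCat.of k))]
    [LocallyOfFiniteType (X ↘ Spec (CommRingCat.of k))]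
    [LocallyOfFiniteType (Y ↘ Spec (CommRingCat.of k))] [LocallyOfFiniteType f]
    (hf : f ≫ (Y ↘ Spec (CommRingCat.of k)) = X ↘ Spec (CommRingCat.of k)) (ξ : X) :
    ∃ e : ℕ, Order.krullDim {z : X | f z = f ξ ∧ ξ ⤳ z} = e ∧
      VarDim.dimPt k X ξ = VarDim.dimPt k Y (f ξ) + e := by
  obtain ⟨V, hV, hyV, -⟩ := exists_isAffineOpen_mem_and_subset (U := ⊤) (x := f ξ) trivial
  obtain ⟨W, hW, hxW, eWsub⟩ := exists_isAffineOpen_mem_and_subset (U := f ⁻¹ᵁ V) (x := ξ) hyV
  have eW : W ≤ f ⁻¹ᵁ V := eWsub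
  set q := hW.primeIdealOf ⟨ξ, hxW⟩ with hq
  set N := hV.primeIdealOf ⟨f ξ, hyV⟩ with hNdef
  have hqf : hW.fromSpec q = ξ := hW.fromSpec_primeIdealOf ⟨ξ, hxW⟩
  have hN : N.asIdeal = q.asIdeal.comap (f.appLE V W eW).hom := by
    have h1 := DimSpec.app_fromSpec hV hW eW q
    rw [hqf] at h1
    have h2 : hV.fromSpec N = f ξ := hV.fromSpec_primeIdealOf ⟨f ξ, hyV⟩
    rw [← h2] at h1
    exact congrArg PrimeSpectrum.asIdeal (hV.fromSpec.isOpenEmbedding.injective h1)
  haveI := q.isPrime; haveI := N.isPrime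
  let A' := Γ(Y, V) ⧸ N.asIdeal
  let S := Γ(X, W) ⧸ q.asIdeal
  letI algAS : Algebra A' S := (Ideal.quotientMap q.asIdeal (f.appLE V W eW).hom hN.le).toAlgebra
  haveI : FaithfulSMul A' S := (faithfulSMul_iff_algebraMap_injective _ _).mpr
    (Ideal.quotientMap_injective' (H := hN.le) hN.ge)
  have hcomp : (f.appLE V W eW).hom.comp (algebraMap k Γ(Y, V)) = algebraMap k Γ(X, W) := by
    have h := congrArg CommRingCat.Hom.hom
      (Scheme.Hom.appLE_comp_appLE f (Y ↘ Spec (CommRingCat.of k)) ⊤ V W (by simp) eW)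
    ext c
    have h1 := RingHom.congr_fun h ((Scheme.ΓSpecIso (CommRingCat.of k)).inv c)
    simp only [hf] at h1
    exact h1
  haveI : IsScalarTower k A' S := IsScalarTower.of_algebraMap_eq fun c => by
    have h1 := RingHom.congr_fun hcomp c
    change Ideal.Quotient.mk q.asIdeal (algebraMap k Γ(X, W) c) =
      Ideal.quotientMap q.asIdeal (f.appLE V W eW).hom hN.le (Ideal.Quotient.mk _ (algebraMap k Γ(Y, V) c))
    rw [Ideal.quotientMap_mk]
    exact congrArg _ h1.symm
  haveI : IsDomain A' := Ideal.Quotient.isDomain _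
  haveI : IsDomain S := Ideal.Quotient.isDomain _
  have h1 : Algebra.trdeg k A' = VarDim.dimPt k Y (f ξ) := VarDim.trdeg_quotient_primeIdealOf k hV _ hyV
  have h2 : Algebra.trdeg k S = VarDim.dimPt k X ξ := VarDim.trdeg_quotient_primeIdealOf k hW _ hxW
  haveI : FaithfulSMul k A' :=
    (faithfulSMul_iff_algebraMap_injective _ _).mpr (algebraMap k A').injective
  have h3 := trdeg_add_eq (R := k) (S := A') (A := S)
  rw [h1, h2] at h3
  obtain ⟨i, e, hi, he, hsum⟩ := CycLib.trdeg_lt_aleph0_of_add h3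
  have h4 : VarDim.dimPt k Y (f ξ) = i := by exact_mod_cast hi
  refine ⟨e, ?_, by omega⟩
  have := FibSemi.krullDim_specs f hV hW eW q N.asIdeal hN e he
  rwa [hqf] at this

end Groth.Agent.FibBound
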